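import Groth.Agent.AmpleEmb.Generated
import Groth.Agent.AmpleEmb.SectionsGe
import Groth.Agent.AmpleEmb.Inverse
import Groth.Agent.CurveLib.Inv
import Groth.Agent.CurveLib.SmulPow
import Groth.Agent.CurveLib.TensorDeg
import Groth.Agent.ASBunKS.Simple
import Groth.Agent.VanGrowLib.Main
import Groth.Prelude.Def_NumR
import Mathlib.Analysis.Convex.Topology

/-!
# Big, ample and effective classes
-/

set_option autoImplicit false
set_option backward.isDefEq.respectTransparency false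
set_option linter.style.haveILetI false
set_option maxHeartbeats 1000000

universe u

open CategoryTheory CategoryTheory.Limits AlgebraicGeometry TopologicalSpace
open Groth.Agent.AmpleLib
open Groth.Agent.CurveLib (tmap)

noncomputable section

namespace Groth.Agent.BigConeLib

variable {X : Scheme.{u}}

theorem exists_section_of_globallyGenerated [IsIntegral X] {M : X.Modules} (hM : PicF.IsInvertible M)
    (hgen : Curv2.IsGloballyGenerated M) : ∃ s : Coh.structureModule X ⟶ M, s ≠ 0 := by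
  obtain ⟨ι, p, hp⟩ := hgen
  by_contra hne
  simp only [not_exists, not_not] at hne
  have hp0 : p = 0 := Sigma.hom_ext _ _ fun i => (hne _).trans comp_zero.symm
  exact ASBunKS.id_ne_zero_of_invertible hM (hp.left_cancellation (g := 𝟙 M) (h := 0) (by simp [hp0]))

/-- Bigness, in the form used by the statements. -/
def BigMod (L : X.Modules) : Prop :=
  ∀ A : X.Modules, CohB1.IsAmple A → ∃ (m : ℕ) (φ : A ⟶ CohB1.tensorPow L m), 0 < m ∧ Mono φ

variable [PicGrp.Law X]

/-- The class has a nonzero section. -/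
def Sec (c : PicLoc.PicSet X) : Prop :=
  ∃ (M : X.Modules) (hM : PicF.IsInvertible M), PicGrp.cls M hM = c ∧ ∃ s : Coh.structureModule X ⟶ M, s ≠ 0

/-- Bigness of a class. -/
def BigC (c : PicLoc.PicSet X) : Prop :=
  ∀ (A : X.Modules) (hA : CohB1.IsAmple A), ∃ m : ℕ, 0 < m ∧ Sec (c ^ m * (PicGrp.cls A hA.1)⁻¹)

theorem cls_tensor {L M : X.Modules} (hL : PicF.IsInvertible L) (hM : PicF.IsInvertible M)
    (h : PicF.IsInvertible (CohB1.tensorMod L M)) :
    PicGrp.cls (CohB1.tensorMod L M) h = PicGrp.cls L hL * PicGrp.cls M hM :=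
  Subtype.ext (PicGrp.cls_mul_cls_val hL hM).symm

theorem cls_tensorPow {L : X.Modules} (hL : PicF.IsInvertible L) (n : ℕ)
    (h : PicF.IsInvertible (CohB1.tensorPow L n)) : PicGrp.cls (CohB1.tensorPow L n) h = PicGrp.cls L hL ^ n :=
  Subtype.ext (PicGrp.cls_pow_val hL n).symm

variable [IsIntegral X]

theorem sec_one : Sec (1 : PicLoc.PicSet X) :=
  ⟨_, PicLoc.isInvertible_structureModule X, PicGrp.cls_structureModule_eq_one, 𝟙 _,
    ASBunKS.id_ne_zero_of_invertible ParaFLib.isInvertible_structureModule⟩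

theorem sec_mul {c d : PicLoc.PicSet X} (hc : Sec c) (hd : Sec d) : Sec (c * d) := by
  obtain ⟨M, hM, rfl, s, hs⟩ := hc
  obtain ⟨N, hN, rfl, t, ht⟩ := hd
  refine ⟨_, isInvertible_tensor hN hM, (cls_tensor hN hM _).trans (mul_comm _ _), s ≫ (unitL M).inv ≫ tmap t M,
    fun h => hs ?_⟩
  haveI := CurveLib.mono_of_ne_zero ParaFLib.isInvertible_structureModule hN ht
  haveI := CurveLib.mono_tmap t (CurveLib.freeAt_one_of_isInvertible hM)
  exact (cancel_mono ((unitL M).inv ≫ tmap t M)).1 (h.trans zero_comp.symm)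

theorem sec_pow {c : PicLoc.PicSet X} (hc : Sec c) : ∀ n : ℕ, Sec (c ^ n)
  | 0 => by rw [pow_zero]; exact sec_one
  | n + 1 => by rw [pow_succ]; exact sec_mul (sec_pow hc n) hc

theorem exists_mono_of_sec {A B : X.Modules} (hA : PicF.IsInvertible A) (hB : PicF.IsInvertible B)
    (h : Sec (PicGrp.cls B hB * (PicGrp.cls A hA)⁻¹)) : ∃ φ : A ⟶ B, Mono φ := by
  obtain ⟨M, hM, hc, s, hs⟩ := h
  obtain ⟨e⟩ := (PicGrp.cls_eq_cls_iff (isInvertible_tensor hM hA) hB).1 (by
    rw [cls_tensor hM hA, hc, inv_mul_cancel_right])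
  haveI := CurveLib.mono_of_ne_zero ParaFLib.isInvertible_structureModule hM hs
  haveI := CurveLib.mono_tmap s (CurveLib.freeAt_one_of_isInvertible hA)
  exact ⟨(unitL A).inv ≫ tmap s A ≫ e.hom, inferInstance⟩

theorem sec_of_mono {A B : X.Modules} (hA : PicF.IsInvertible A) (hB : PicF.IsInvertible B) (φ : A ⟶ B) [Mono φ] :
    Sec (PicGrp.cls B hB * (PicGrp.cls A hA)⁻¹) := by
  obtain ⟨N, hN, ⟨e⟩⟩ := AmpleEmb.exists_isInverseOf hA
  haveI := CurveLib.mono_tmap φ (CurveLib.freeAt_one_of_isInvertible hN)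
  refine ⟨_, isInvertible_tensor hB hN, by rw [cls_tensor hB hN, PicGrp.cls_inv_eq_cls hA hN ⟨e⟩],
    e.inv ≫ tmap φ N, fun h => ASBunKS.id_ne_zero_of_invertible (ParaFLib.isInvertible_structureModule (X := X)) ?_⟩
  exact (cancel_mono (e.inv ≫ tmap φ N)).1 ((Category.id_comp _).trans (h.trans zero_comp.symm))

theorem bigC_iff {L : X.Modules} (hL : PicF.IsInvertible L) : BigMod L ↔ BigC (PicGrp.cls L hL) := by
  constructor
  · intro h A hA
    obtain ⟨m, φ, hm, hφ⟩ := h A hA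
    haveI := hφ
    refine ⟨m, hm, ?_⟩
    rw [← cls_tensorPow hL m (isInvertible_tensorPow hL m)]
    exact sec_of_mono hA.1 _ φ
  · intro h A hA
    obtain ⟨m, hm, hs⟩ := h A hA
    rw [← cls_tensorPow hL m (isInvertible_tensorPow hL m)] at hs
    obtain ⟨φ, hφ⟩ := exists_mono_of_sec hA.1 _ hs
    exact ⟨m, φ, hm, hφ⟩

theorem bigC_mul_sec {l e : PicLoc.PicSet X} (hl : BigC l) (he : Sec e) (n : ℕ) : BigC (l * e ^ n) := by
  intro A hA
  obtain ⟨m, hm, hs⟩ := hl A hA
  refine ⟨m, hm, ?_⟩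
  have h := sec_mul hs (sec_pow (sec_pow he n) m)
  rwa [mul_right_comm, ← mul_pow] at h

variable [IsLocallyNoetherian X]

theorem eventually_sec {A : X.Modules} (hA : CohB1.IsAmple A) (c : PicLoc.PicSet X) :
    ∃ N, ∀ E, N ≤ E → Sec (c * PicGrp.cls A hA.1 ^ E) := by
  obtain ⟨M, hM, rfl⟩ := PicGrp.exists_eq_cls c
  obtain ⟨N, hN⟩ := AmpleEmb.eventually_isGloballyGenerated hA (CurveLib.isCoh_of_isInvertible hM)
  have hi : ∀ E, PicF.IsInvertible (CohB1.tensorMod M (CohB1.tensorPow A E)) := fun E =>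
    isInvertible_tensor hM (isInvertible_tensorPow hA.1 E)
  exact ⟨N, fun E hE => ⟨_, hi E, by
    rw [cls_tensor hM (isInvertible_tensorPow hA.1 E), cls_tensorPow hA.1],
    exists_section_of_globallyGenerated (hi E) (hN E hE)⟩⟩

omit [IsIntegral X] in
theorem eventually_ample {A : X.Modules} (hA : CohB1.IsAmple A) (c : PicLoc.PicSet X) :
    ∃ N, ∀ E, N ≤ E → ∃ (M : X.Modules) (hM : CohB1.IsAmple M),
      PicGrp.cls M hM.1 = PicGrp.cls A hA.1 ^ E * c := by
  obtain ⟨L, hL, rfl⟩ := PicGrp.exists_eq_cls c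
  obtain ⟨N, hN⟩ := AmpleEmb.eventually_isAmple_tensor hA hL
  exact ⟨N, fun E hE => ⟨_, (hN E hE).1, by
    rw [cls_tensor (isInvertible_tensorPow hA.1 E) hL, cls_tensorPow hA.1]⟩⟩

theorem bigC_of_ample {A : X.Modules} (hA : CohB1.IsAmple A) : BigC (PicGrp.cls A hA.1) := by
  intro B hB
  obtain ⟨N, hN⟩ := eventually_sec hA (PicGrp.cls B hB.1)⁻¹
  exact ⟨N + 1, N.succ_pos, by rw [mul_comm]; exact hN _ N.le_succ⟩

section Cones

variable (k : Type u) [Field k] [X.Over (Spec (CommRingCat.of k))]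

/-- The real class of an element of the Picard group. -/
def R (c : PicLoc.PicSet X) : NumR.N1R k X := NumR.toN1R k X (NumR.toN1 k X (Additive.ofMul c))

omit [IsIntegral X] [IsLocallyNoetherian X] in
theorem R_mul (c d : PicLoc.PicSet X) : R k (c * d) = R k c + R k d := by
  simp only [R, ofMul_mul, map_add]

omit [IsIntegral X] [IsLocallyNoetherian X] in
theorem R_inv (c : PicLoc.PicSet X) : R k c⁻¹ = - R k c := by
  simp only [R, ofMul_inv, map_neg]

omit [IsIntegral X] [IsLocallyNoetherian X] in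
theorem R_pow (c : PicLoc.PicSet X) (n : ℕ) : R k (c ^ n) = (n : ℝ) • R k c := by
  rw [Nat.cast_smul_eq_nsmul]
  simp only [R, ofMul_pow, map_nsmul]

omit [IsIntegral X] [IsLocallyNoetherian X] in
theorem R_cls {L : X.Modules} (hL : PicF.IsInvertible L) : R k (PicGrp.cls L hL) = NumR.clR k X L hL := rfl

abbrev Big : ConvexCone ℝ (NumR.N1R k X) := NumR.coneOf k X BigMod
abbrev Amp : ConvexCone ℝ (NumR.N1R k X) := NumR.ampleCone k X
abbrev Eff : ConvexCone ℝ (NumR.N1R k X) := NumR.effCone k X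

omit [IsLocallyNoetherian X] in
theorem R_mem_Big {c : PicLoc.PicSet X} (hc : BigC c) : R k c ∈ Big k := by
  obtain ⟨L, hL, rfl⟩ := PicGrp.exists_eq_cls c
  exact ConvexCone.subset_hull ⟨L, hL, (bigC_iff hL).2 hc, rfl⟩

omit [IsIntegral X] [IsLocallyNoetherian X] in
theorem R_mem_Amp {M : X.Modules} (hM : CohB1.IsAmple M) : R k (PicGrp.cls M hM.1) ∈ Amp k :=
  ConvexCone.subset_hull ⟨M, hM.1, hM, rfl⟩

omit [IsIntegral X] [IsLocallyNoetherian X] in
theorem R_mem_Eff {c : PicLoc.PicSet X} (hc : Sec c) : R k c ∈ Eff k := by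
  obtain ⟨M, hM, rfl, hs⟩ := hc
  exact ConvexCone.subset_hull ⟨M, hM, hs, rfl⟩

theorem Amp_le_Big : Amp (X := X) k ≤ Big k := ConvexCone.hull_min (by
  rintro _ ⟨L, hL, hA, rfl⟩
  exact R_mem_Big k (bigC_of_ample hA))

omit [IsLocallyNoetherian X] in
theorem add_mem_Big {x y : NumR.N1R k X} (hx : x ∈ Big k) (hy : y ∈ Eff k) : x + y ∈ Big k := by
  let K : ConvexCone ℝ (NumR.N1R k X) :=
    { carrier := {y | ∀ x ∈ Big k, x + y ∈ Big k}
      smul_mem' := fun t ht y hy x hx => by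
        rw [show x + t • y = t • (t⁻¹ • x + y) by rw [smul_add, smul_inv_smul₀ ht.ne']]
        exact (Big k).smul_mem ht (hy _ ((Big k).smul_mem (inv_pos.2 ht) hx))
      add_mem' := fun y hy z hz x hx => by
        rw [← add_assoc]
        exact hz _ (hy x hx) }
  refine (ConvexCone.hull_min (C := K) ?_ : Eff k ≤ K) hy x hx
  rintro _ ⟨M, hM, hs, rfl⟩ x hx
  have he : Sec (PicGrp.cls M hM) := ⟨M, hM, rfl, hs⟩
  let K' : ConvexCone ℝ (NumR.N1R k X) :=
    { carrier := {x | x ∈ Big k ∧ ∀ t : ℝ, 0 < t → x + t • NumR.clR k X M hM ∈ Big k}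
      smul_mem' := fun r hr x ⟨hx, hxt⟩ => ⟨(Big k).smul_mem hr hx, fun t ht => by
        rw [show r • x + t • NumR.clR k X M hM = r • (x + (t / r) • NumR.clR k X M hM) by
          rw [smul_add, smul_smul, mul_div_cancel₀ t hr.ne']]
        exact (Big k).smul_mem hr (hxt _ (div_pos ht hr))⟩
      add_mem' := fun x ⟨hx, hxt⟩ y ⟨hy, _⟩ => ⟨(Big k).add_mem hx hy, fun t ht => by
        rw [show x + y + t • NumR.clR k X M hM = (x + t • NumR.clR k X M hM) + y by abel]
        exact (Big k).add_mem (hxt t ht) hy⟩ }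
  suffices hle : Big k ≤ K' by
    have := (hle hx).2 1 one_pos
    rwa [one_smul] at this
  refine ConvexCone.hull_min ?_
  rintro _ ⟨L, hL, hb, rfl⟩
  have hbc := (bigC_iff hL).1 hb
  refine ⟨R_mem_Big k hbc, fun t ht => ?_⟩
  obtain ⟨n, hn⟩ := exists_nat_gt t
  have hn0 : (0 : ℝ) < n := ht.trans hn
  have h1 := (Big k).add_mem ((Big k).smul_mem (sub_pos.2 ((div_lt_one hn0).2 hn)) (R_mem_Big k hbc))
    ((Big k).smul_mem (div_pos ht hn0) (R_mem_Big k (bigC_mul_sec hbc he n)))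
  rwa [R_mul, R_pow, R_cls, R_cls, smul_add, ← add_assoc, ← add_smul, sub_add_cancel, one_smul, smul_smul,
    div_mul_cancel₀ t hn0.ne'] at h1

omit [IsLocallyNoetherian X] in
theorem exists_decomp {H : X.Modules} (hH : CohB1.IsAmple H) {x : NumR.N1R k X} (hx : x ∈ Big k) :
    ∃ a ∈ Amp k, ∃ e ∈ Eff k, x = a + e := by
  let K : ConvexCone ℝ (NumR.N1R k X) :=
    { carrier := {x | ∃ a ∈ Amp k, ∃ e ∈ Eff k, x = a + e}
      smul_mem' := fun t ht x ⟨a, ha, e, he, hx⟩ =>
        ⟨t • a, (Amp k).smul_mem ht ha, t • e, (Eff k).smul_mem ht he, by rw [hx, smul_add]⟩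
      add_mem' := fun x ⟨a, ha, e, he, hx⟩ y ⟨a', ha', e', he', hy⟩ =>
        ⟨a + a', (Amp k).add_mem ha ha', e + e', (Eff k).add_mem he he', by rw [hx, hy]; abel⟩ }
  refine (ConvexCone.hull_min (C := K) ?_ : Big k ≤ K) hx
  rintro _ ⟨L, hL, hb, rfl⟩
  obtain ⟨m, hm, hs⟩ := (bigC_iff hL).1 hb H hH
  have hm0 : (0 : ℝ) < m := Nat.cast_pos.2 hm
  refine ⟨(m : ℝ)⁻¹ • R k (PicGrp.cls H hH.1), (Amp k).smul_mem (inv_pos.2 hm0) (R_mem_Amp k hH), _,
    (Eff k).smul_mem (inv_pos.2 hm0) (R_mem_Eff k hs), ?_⟩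
  rw [← smul_add, ← R_mul, mul_comm (PicGrp.cls H hH.1), inv_mul_cancel_right, R_pow,
    inv_smul_smul₀ hm0.ne', R_cls]

theorem mem_Big_iff {H : X.Modules} (hH : CohB1.IsAmple H) (x : NumR.N1R k X) :
    x ∈ Big k ↔ ∃ a ∈ ((Amp (X := X) k) : Set (NumR.N1R k X)), x - a ∈ ((Eff (X := X) k) : Set (NumR.N1R k X)) := by
  constructor
  · intro hx
    obtain ⟨a, ha, e, he, rfl⟩ := exists_decomp k hH hx
    exact ⟨a, ha, by rwa [add_sub_cancel_left]⟩
  · rintro ⟨a, ha, he⟩
    rw [← add_sub_cancel a x]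
    exact add_mem_Big k (Amp_le_Big k ha) he

theorem Big_le_Eff {H : X.Modules} (hH : CohB1.IsAmple H) : Big (X := X) k ≤ Eff k := by
  intro x hx
  obtain ⟨a, ha, e, he, rfl⟩ := exists_decomp k hH hx
  refine (Eff k).add_mem ((ConvexCone.hull_min ?_ : Amp k ≤ Eff k) ha) he
  rintro _ ⟨A, hA', hA, rfl⟩
  obtain ⟨N, hN⟩ := eventually_sec hA 1
  have hN0 : (0 : ℝ) < (N + 1 : ℕ) := Nat.cast_pos.2 N.succ_pos
  have h := (Eff k).smul_mem (inv_pos.2 hN0) (R_mem_Eff k (hN _ N.le_succ))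
  rwa [one_mul, R_pow, inv_smul_smul₀ hN0.ne', R_cls] at h

theorem isOpen_Amp [Module.Finite ℝ (NumR.N1R k X)] : IsOpen ((Amp (X := X) k) : Set (NumR.N1R k X)) := by
  let b0 := Module.Basis.ofSpan (NumR.span_clR (k := k) (X := X)).ge
  haveI : Fintype _ := FiniteDimensional.fintypeBasisIndex b0
  have hb : ∀ i, ∃ c : PicLoc.PicSet X, b0 i = R k c := fun i => by
    obtain ⟨L, hL, h⟩ := Module.Basis.ofSpan_subset (NumR.span_clR (k := k) (X := X)).ge ⟨i, rfl⟩
    exact ⟨PicGrp.cls L hL, h⟩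
  choose cb hcb using hb
  let K : ConvexCone ℝ (NumR.N1R k X) :=
    { carrier := {x | x ∈ Amp k ∧ ∀ c : PicLoc.PicSet X, ∃ ε : ℝ, 0 < ε ∧ x + ε • R k c ∈ Amp k}
      smul_mem' := fun t ht x ⟨hx, hxc⟩ => ⟨(Amp k).smul_mem ht hx, fun c => by
        obtain ⟨ε, hε, h⟩ := hxc c
        refine ⟨t * ε, mul_pos ht hε, ?_⟩
        rw [mul_smul, ← smul_add]
        exact (Amp k).smul_mem ht h⟩
      add_mem' := fun x ⟨hx, hxc⟩ y ⟨hy, _⟩ => ⟨(Amp k).add_mem hx hy, fun c => by
        obtain ⟨ε, hε, h⟩ := hxc c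
        refine ⟨ε, hε, ?_⟩
        rw [show x + y + ε • R k c = (x + ε • R k c) + y by abel]
        exact (Amp k).add_mem h hy⟩ }
  have hK : Amp k ≤ K := ConvexCone.hull_min (by
    rintro _ ⟨M, hM', hM, rfl⟩
    refine ⟨R_mem_Amp k hM, fun c => ?_⟩
    obtain ⟨N, hN⟩ := eventually_ample hM c
    obtain ⟨M', hM'', he⟩ := hN (N + 1) N.le_succ
    have hN0 : (0 : ℝ) < (N + 1 : ℕ) := Nat.cast_pos.2 N.succ_pos
    refine ⟨((N + 1 : ℕ) : ℝ)⁻¹, inv_pos.2 hN0, ?_⟩
    have h := (Amp k).smul_mem (inv_pos.2 hN0) (R_mem_Amp k hM'')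
    rwa [he, R_mul, R_pow, smul_add, inv_smul_smul₀ hN0.ne', R_cls] at h)
  refine isOpen_iff_forall_mem_open.2 fun x hx => ?_
  choose εp hεp hp using fun i => (hK hx).2 (cb i)
  choose εm hεm hm using fun i => (hK hx).2 (cb i)⁻¹
  let g : NumR.N1R k X → ℝ := fun z => ∑ i, |b0.equivFun (z - x) i| / min (εp i) (εm i)
  have hg : Continuous g := by
    have hc : Continuous fun z => b0.equivFun z :=
      IsModuleTopology.continuous_of_linearMap (R := ℝ) b0.equivFun.toLinearMap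
    refine continuous_finsetSum _ fun i _ => Continuous.div_const (Continuous.abs ?_) _
    simp only [map_sub, Pi.sub_apply]
    exact ((continuous_apply i).comp hc).sub continuous_const
  refine ⟨{z | g z < 1}, fun z hz => ?_, isOpen_lt hg continuous_const, by simp [g]⟩
  let w := fun i => |b0.equivFun (z - x) i| / min (εp i) (εm i)
  let c := fun i => b0.equivFun (z - x) i
  have hterm : ∀ i, c i ≠ 0 → w i • x + c i • b0 i ∈ Amp k := fun i hi => by
    have hmin : 0 < min (εp i) (εm i) := lt_min (hεp i) (hεm i)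
    have conv : ∀ (ε : ℝ) (y : NumR.N1R k X), 0 < ε → min (εp i) (εm i) ≤ ε → x + ε • y ∈ Amp k →
        x + min (εp i) (εm i) • y ∈ Amp k := fun ε y hε hle hy => by
      rcases eq_or_lt_of_le hle with he | hlt
      · rwa [he]
      have := (Amp k).add_mem ((Amp k).smul_mem (sub_pos.2 ((div_lt_one hε).2 hlt)) hx)
        ((Amp k).smul_mem (div_pos hmin hε) hy)
      rwa [smul_add, ← add_assoc, ← add_smul, sub_add_cancel, one_smul, smul_smul, div_mul_cancel₀ _ hε.ne'] at this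
    rcases lt_or_gt_of_ne hi with hneg | hpos
    · have h := (Amp k).smul_mem (div_pos (abs_pos.2 hi) hmin) (conv _ _ (hεm i) (min_le_right _ _) (hm i))
      rwa [R_inv, ← hcb, smul_add, smul_neg, smul_neg, smul_smul, div_mul_cancel₀ _ hmin.ne', abs_of_neg hneg,
        neg_smul, neg_neg, show -c i / min (εp i) (εm i) = w i from by
          show _ = |c i| / _; rw [abs_of_neg hneg]] at h
    · have h := (Amp k).smul_mem (div_pos (abs_pos.2 hi) hmin) (conv _ _ (hεp i) (min_le_left _ _) (hp i))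
      rwa [← hcb, smul_add, smul_smul, div_mul_cancel₀ _ hmin.ne', abs_of_pos hpos,
        show c i / min (εp i) (εm i) = w i from by show _ = |c i| / _; rw [abs_of_pos hpos]] at h
  have hind : ∀ s : Finset _, (1 - g z) • x + ∑ i ∈ s, (w i • x + c i • b0 i) ∈ Amp k := fun s => by
    classical
    induction s using Finset.induction_on with
    | empty => rw [Finset.sum_empty, add_zero]; exact (Amp k).smul_mem (sub_pos.2 hz) hx
    | insert i s his ih =>
      rw [Finset.sum_insert his, add_left_comm, add_comm]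
      rcases eq_or_ne (c i) 0 with h0 | h0
      · have hw : w i = 0 := by
          show |c i| / _ = 0
          rw [h0, abs_zero, zero_div]
        rw [h0, hw, zero_smul, zero_smul, add_zero, add_zero]
        exact ih
      · exact (Amp k).add_mem ih (hterm i h0)
  have h := hind Finset.univ
  rw [Finset.sum_add_distrib, ← Finset.sum_smul, b0.sum_equivFun, ← add_assoc, ← add_smul,
    show 1 - g z + ∑ i, w i = 1 from sub_add_cancel _ _, one_smul, add_sub_cancel] at h
  exact h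

theorem Big_eq_interior {H : X.Modules} (hH : CohB1.IsAmple H) [Module.Finite ℝ (NumR.N1R k X)] :
    ((Big (X := X) k) : Set (NumR.N1R k X)) = interior (NumR.psefCone k X) ∧
      NumR.psefCone k X = closure ((Big (X := X) k) : Set (NumR.N1R k X)) := by
  have hop : IsOpen ((Big (X := X) k) : Set (NumR.N1R k X)) := isOpen_iff_forall_mem_open.2 fun x hx => by
    obtain ⟨a, ha, e, he, rfl⟩ := exists_decomp k hH hx
    refine ⟨(fun z => z - e) ⁻¹' ((Amp (X := X) k) : Set (NumR.N1R k X)), fun z hz => ?_,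
      (isOpen_Amp k).preimage (by simp only [sub_eq_add_neg]; exact continuous_id.add continuous_const), ?_⟩
    · have := add_mem_Big k (Amp_le_Big k hz) he
      rwa [sub_add_cancel] at this
    · show a + e - e ∈ Amp k
      rwa [add_sub_cancel_right]
  have hcl : NumR.psefCone k X = closure ((Big (X := X) k) : Set (NumR.N1R k X)) := by
    refine subset_antisymm (closure_minimal (fun e he => ?_) isClosed_closure) (closure_mono (Big_le_Eff k hH))
    have hlim : Filter.Tendsto (fun n : ℕ => (1 / ((n : ℝ) + 1)) • R k (PicGrp.cls H hH.1) + e) Filter.atTop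
        (nhds e) := by
      have h := ((tendsto_one_div_add_atTop_nhds_zero_nat (𝕜 := ℝ)).smul_const (R k (PicGrp.cls H hH.1))).add_const e
      rwa [zero_smul, zero_add] at h
    exact mem_closure_of_tendsto hlim (Filter.Eventually.of_forall fun n =>
      add_mem_Big k ((Big k).smul_mem (by positivity) (Amp_le_Big k (R_mem_Amp k hH))) he)
  refine ⟨?_, hcl⟩
  haveI : IsTopologicalAddGroup (NumR.N1R k X) := IsModuleTopology.topologicalAddGroup ℝ _
  rw [hcl, (Big k).convex.interior_closure_eq_interior_of_nonempty_interior, hop.interior_eq]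
  rw [hop.interior_eq]
  exact ⟨_, Amp_le_Big k (R_mem_Amp k hH)⟩

end Cones

end Groth.Agent.BigConeLib
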